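import Mathlib.LinearAlgebra.Matrix.GeneralLinearGroup.Card
import Mathlib.Algebra.Module.ZMod
import Mathlib.Algebra.Field.ZMod
import Mathlib.GroupTheory.GroupAction.Quotient
import Cfsg.Agent.Solvable.PGroupBasic

/-!
Bounds for automorphism groups of finite `p`-groups through free actions on generating tuples.
-/

set_option autoImplicit false
set_option linter.style.haveILetI false

namespace CfsgLib.AutFrattini

open Subgroup

/-- A finite group acting freely has order dividing the size of the set it acts on. -/
theorem card_dvd_of_free {A Ω : Type*} [Group A] [MulAction A Ω] [Finite A] [Finite Ω]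
    (h : ∀ (a : A) (ω : Ω), a • ω = ω → a = 1) : Nat.card A ∣ Nat.card Ω := by
  classical
  have := Fintype.ofFinite (Quotient (MulAction.orbitRel A Ω))
  rw [Nat.card_congr (MulAction.selfEquivSigmaOrbitsQuotientStabilizer A Ω), Nat.card_sigma]
  refine Finset.dvd_sum fun ω _ => dvd_of_eq ?_
  rw [show MulAction.stabilizer A (Quotient.out ω) = ⊥ from
    (Subgroup.eq_bot_iff_forall _).2 fun a ha => h a _ ha]
  exact (Nat.card_congr QuotientGroup.quotientBot.toEquiv).symm

variable {P : Type*} [Group P] [Finite P]

/-- An automorphism fixing a set which generates modulo the Frattini subgroup is trivial. -/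
theorem eq_one_of_fixes {ι : Type*} (α : MulAut P) (f : ι → P) (h : ∀ i, α (f i) = f i)
    (hgen : closure (Set.range f) ⊔ frattini P = ⊤) : α = 1 := by
  apply MulEquiv.ext
  intro x
  exact DFunLike.congr_fun (MonoidHom.eq_of_eqOn_dense (f := α.toMonoidHom) (g := MonoidHom.id P)
    (frattini_nongenerating hgen) (by rintro _ ⟨i, rfl⟩; exact h i)) x

omit [Finite P] in
theorem frattini_card_eq {p n r : ℕ} [Fact p.Prime] (hP : Nat.card P = p ^ n)
    (hr : (frattini P).index = p ^ r) : r ≤ n ∧ Nat.card (frattini P) = p ^ (n - r) := by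
  have h := (frattini P).card_mul_index
  rw [hr, hP] at h
  have hle : r ≤ n := (Nat.pow_dvd_pow_iff_le_right (Fact.out : p.Prime).one_lt).1
    ⟨_, by rw [← h, mul_comm]⟩
  refine ⟨hle, Nat.eq_of_mul_eq_mul_right (pow_pos (Fact.out : p.Prime).pos r) ?_⟩
  rw [h, ← pow_add, Nat.sub_add_cancel hle]

/-- Automorphisms trivial on the Frattini quotient. -/
theorem card_dvd_of_trivial_mod_frattini {p n r : ℕ} [Fact p.Prime] (hP : Nat.card P = p ^ n)
    (hr : (frattini P).index = p ^ r) (A : Subgroup (MulAut P))
    (hA : ∀ α ∈ A, ∀ x : P, α x * x⁻¹ ∈ frattini P) : Nat.card A ∣ p ^ (r * (n - r)) := by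
  classical
  haveI := Fintype.ofFinite P
  obtain ⟨T, -, hTc, hT⟩ := (CfsgLib.PGroupBasic.burnside_basis (IsPGroup.of_card hP) hr).1
    Finset.univ (by simp)
  let Ω := {f : T → P // ∀ t : T, f t * (t : P)⁻¹ ∈ frattini P}
  letI : MulAction A Ω :=
    { smul := fun α f => ⟨fun t => (α : MulAut P) (f.1 t), fun t => by
        have := mul_mem (hA α α.2 (f.1 t)) (f.2 t)
        simpa [mul_assoc] using this⟩
      one_smul := fun f => Subtype.ext (funext fun t => rfl)
      mul_smul := fun α β f => Subtype.ext (funext fun t => rfl) }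
  have h1 : Nat.card A ∣ Nat.card Ω := by
    refine card_dvd_of_free fun α f hf => Subtype.ext (eq_one_of_fixes _ f.1
      (fun t => congrFun (congrArg Subtype.val hf) t) ?_)
    rw [eq_top_iff, ← hT, closure_le]
    intro t ht
    have h1 : f.1 ⟨t, ht⟩ ∈ closure (Set.range f.1) ⊔ frattini P :=
      mem_sup_left (subset_closure (Set.mem_range_self _))
    have h2 : f.1 ⟨t, ht⟩ * t⁻¹ ∈ closure (Set.range f.1) ⊔ frattini P :=
      mem_sup_right (f.2 ⟨t, ht⟩)
    simpa using mul_mem (inv_mem h2) h1
  let e : Ω ≃ (T → frattini P) :=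
    { toFun := fun f t => ⟨f.1 t * (t : P)⁻¹, f.2 t⟩
      invFun := fun g => ⟨fun t => g t * t, fun t => by simp⟩
      left_inv := fun f => Subtype.ext (funext fun t => by simp)
      right_inv := fun g => funext fun t => Subtype.ext (by simp) }
  obtain ⟨-, hΦ⟩ := frattini_card_eq hP hr
  rwa [Nat.card_congr e, Nat.card_fun, hΦ, Nat.card_eq_fintype_card (α := T), Fintype.card_coe, hTc,
    ← pow_mul, mul_comm] at h1

theorem finrank_additive {Q : Type*} [CommGroup Q] [Finite Q] {p r : ℕ} [Fact p.Prime]
    [Module (ZMod p) (Additive Q)] (hQ : Nat.card Q = p ^ r) :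
    Module.finrank (ZMod p) (Additive Q) = r := by
  have h := Module.natCard_eq_pow_finrank (K := ZMod p) (V := Additive Q)
  rw [Nat.card_zmod, Nat.card_congr (Additive.toMul (α := Q)), hQ] at h
  exact ((Nat.pow_right_injective (Fact.out : p.Prime).two_le) h).symm

theorem linearIndependent_gen {Q : Type*} [CommGroup Q] [Finite Q] {p r : ℕ} [Fact p.Prime]
    [Module (ZMod p) (Additive Q)] (hQ : Nat.card Q = p ^ r) (g : Fin r → Q)
    (hg : LinearIndependent (ZMod p) (Additive.ofMul ∘ g)) : closure (Set.range g) = ⊤ := by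
  have hfr : Module.finrank (ZMod p) (Additive Q) = r := finrank_additive hQ
  have hs := hg.span_eq_top_of_card_eq_finrank' (by rw [Fintype.card_fin, hfr])
  set W := AddSubgroup.toZModSubmodule p (M := Additive Q) (Subgroup.toAddSubgroup (closure (Set.range g)))
  have hW : W = ⊤ := by
    rw [eq_top_iff, ← hs, Submodule.span_le]
    rintro _ ⟨i, rfl⟩
    exact (subset_closure (Set.mem_range_self i) : g i ∈ closure (Set.range g))
  rw [eq_top_iff]
  intro x _
  have hx : Additive.ofMul x ∈ W := hW.symm ▸ Submodule.mem_top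
  exact hx

/-- The automorphism group of a finite `p`-group. -/
theorem card_mulAut_dvd {p n r : ℕ} [Fact p.Prime] (hP : Nat.card P = p ^ n)
    (hr : (frattini P).index = p ^ r) :
    Nat.card (MulAut P) ∣ p ^ (r * (n - r)) * ∏ i ∈ Finset.range r, (p ^ r - p ^ i) := by
  classical
  obtain ⟨hc, hpw⟩ := CfsgLib.PGroupBasic.commutator_pow_le_frattini (p := p) (IsPGroup.of_card hP)
  have hcomm : ∀ a b : P ⧸ frattini P, a * b = b * a :=
    (Normal.quotient_commutative_iff_commutator_le.2 hc).is_comm.comm
  letI : CommGroup (P ⧸ frattini P) := { (inferInstance : Group (P ⧸ frattini P)) with mul_comm := hcomm }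
  letI : Module (ZMod p) (Additive (P ⧸ frattini P)) := AddCommGroup.zmodModule fun v => by
    obtain ⟨x, hx⟩ := QuotientGroup.mk_surjective (Additive.toMul v)
    apply Additive.toMul.injective
    rw [toMul_nsmul, ← hx, toMul_zero, ← QuotientGroup.mk_pow, QuotientGroup.eq_one_iff]
    exact hpw x
  let π : (Fin r → P) → (Fin r → Additive (P ⧸ frattini P)) := fun f i =>
    Additive.ofMul (QuotientGroup.mk (f i))
  let Ω := {f : Fin r → P // LinearIndependent (ZMod p) (π f)}
  have hinv : ∀ (α : MulAut P) (f : Fin r → P), LinearIndependent (ZMod p) (π f) →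
      LinearIndependent (ZMod p) (π fun i => α (f i)) := by
    intro α f hf
    have hmap : (frattini P).map (α : P →* P) = frattini P :=
      Subgroup.characteristic_iff_map_eq.1 inferInstance α
    let φ := MonoidHom.toAdditive (QuotientGroup.congr (frattini P) (frattini P) α hmap).toMonoidHom
    have hφ : Function.Injective φ := (QuotientGroup.congr (frattini P) (frattini P) α hmap).injective
    exact hf.map' (φ.toZModLinearMap p) (LinearMap.ker_eq_bot.2 hφ)
  letI : MulAction (MulAut P) Ω :=
    { smul := fun α f => ⟨fun i => α (f.1 i), hinv α f.1 f.2⟩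
      one_smul := fun f => Subtype.ext (funext fun t => rfl)
      mul_smul := fun α β f => Subtype.ext (funext fun t => rfl) }
  have hQ : Nat.card (P ⧸ frattini P) = p ^ r := by rw [← index_eq_card, hr]
  have h1 : Nat.card (MulAut P) ∣ Nat.card Ω := by
    refine card_dvd_of_free fun α f hf => eq_one_of_fixes α f.1
      (fun i => congrFun (congrArg Subtype.val hf) i) ?_
    have hs := linearIndependent_gen hQ (fun i => (f.1 i : P ⧸ frattini P)) f.2
    rw [show (Set.range fun i => (f.1 i : P ⧸ frattini P)) =
        QuotientGroup.mk' (frattini P) '' Set.range f.1 from (Set.range_comp' _ _), ← MonoidHom.map_closure] at hs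
    have := congrArg (Subgroup.comap (QuotientGroup.mk' (frattini P))) hs
    rwa [comap_map_eq, QuotientGroup.ker_mk', comap_top] at this
  have hcardΩ : Nat.card Ω = (∏ i : Fin r, (p ^ r - p ^ (i : ℕ))) * p ^ (r * (n - r)) := by
    let S := {g : Fin r → Additive (P ⧸ frattini P) // LinearIndependent (ZMod p) g}
    let e : (Fin r → P) ≃ (Fin r → Additive (P ⧸ frattini P)) × (Fin r → frattini P) :=
      { toFun := fun f => (π f, fun i => ⟨(Quotient.out (f i : P ⧸ frattini P))⁻¹ * f i,
          QuotientGroup.eq.1 (QuotientGroup.out_eq' _)⟩)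
        invFun := fun g i => Quotient.out (Additive.toMul (g.1 i)) * g.2 i
        left_inv := fun f => funext fun i => by simp [π]
        right_inv := fun g => by
          have hm : ∀ i, ((Quotient.out (Additive.toMul (g.1 i)) * (g.2 i : P) : P) : P ⧸ frattini P) =
              Additive.toMul (g.1 i) := fun i => by
            rw [QuotientGroup.mk_mul_of_mem _ (g.2 i).2, QuotientGroup.out_eq']
          refine Prod.ext (funext fun i => ?_) (funext fun i => Subtype.ext ?_)
          · simp only [π, hm, ofMul_toMul]
          · simp only [hm, inv_mul_cancel_left] }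
    let e1 : Ω ≃ {g : (Fin r → Additive (P ⧸ frattini P)) × (Fin r → frattini P) //
        LinearIndependent (ZMod p) g.1} := e.subtypeEquiv fun f => Iff.rfl
    let e2 : Ω ≃ S × (Fin r → frattini P) :=
      e1.trans (Equiv.prodSubtypeFstEquivSubtypeProd
        (p := fun g : Fin r → Additive (P ⧸ frattini P) => LinearIndependent (ZMod p) g))
    obtain ⟨-, hΦ⟩ := frattini_card_eq hP hr
    have hfr : Module.finrank (ZMod p) (Additive (P ⧸ frattini P)) = r := finrank_additive hQ
    haveI := Fintype.ofFinite (Additive (P ⧸ frattini P))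
    rw [Nat.card_congr e2, Nat.card_prod, card_linearIndependent (le_of_eq hfr.symm), Nat.card_fun,
      hΦ, Nat.card_fin, hfr, ZMod.card, ← pow_mul, mul_comm (n - r)]
  rw [hcardΩ, Fin.prod_univ_eq_prod_range (fun i => p ^ r - p ^ i) r, mul_comm] at h1
  exact h1

end CfsgLib.AutFrattini
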